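import Mathlib
import Cfsg.Agent.H600.RIM.ExcDefs
import Cfsg.Agent.H229.RIM.Fam

/-!
# S4816, box EXC: from the characters of the components to the cocycle (helper600)
-/

set_option autoImplicit false
set_option linter.unusedSectionVars false

open Cfsg

namespace Cfsg.Agent.H600.RIM.Exc

open Cfsg.Agent.H229.RIM Cfsg.Agent.H229.NX MulAction Cfsg.Agent.H672 Cfsg.Agent.H586.GW

universe u

section

variable {G : Type*} [Group G] {E F K : Subgroup G}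

theorem Cj.trans {g h : G} {ψ : E → ℂ} {ψ' : F → ℂ} {ψ'' : K → ℂ} (h1 : Cj g ψ ψ') (h2 : Cj h ψ' ψ'')
    (hF : ∀ x ∈ E, g * x * g⁻¹ ∈ F) : Cj (h * g) ψ ψ'' := by
  intro x y hxy
  rw [h2 ⟨g * x * g⁻¹, hF x x.2⟩ y (by rw [hxy]; group), h1 x _ rfl]

theorem Cj.symm {g : G} {ψ : E → ℂ} {ψ' : F → ℂ} (h1 : Cj g ψ ψ') : Cj g⁻¹ ψ' ψ := by
  intro x y hxy
  exact (h1 y x (by rw [hxy]; group)).symm

end

section

variable [hp5 : Fact (Nat.Prime 5)] {G : Type u} [Group G] [Finite G] {Z Y : Subgroup G} {l : Z →* ℂˣ}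
  {Ω : Type u} [MulAction G Ω] {L : Ω → Subgroup G} (C : Comp 5 Z Y l L)

include C in
theorem mem_of_smul {g x : G} {ω ω' : Ω} (h : g • ω = ω') (hx : x ∈ L ω) : g * x * g⁻¹ ∈ L ω' := by
  subst h
  exact C.mem_conj_iff.2 hx

include C in
/-- **The bridge.** -/
theorem bridge (ω₀ : Ω) {T₀ : Subgroup G} {a b : L ω₀ → ℂ} (hP : Pair4 Z l (L ω₀) (stabilizer G ω₀) T₀ a b) :
    ∃ κ : G → Ω → ZMod 2, (∀ g h ω, κ (g * h) ω = κ g (h • ω) + κ h ω) ∧ (∃ g ω, g • ω = ω ∧ κ g ω = 1) ∧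
      (∀ (f : Ω → ZMod 2) (c : Ω → Bool), ∃ ψ : ∀ ω, L ω → ℂ, (∀ ω, IrrO Z l (L ω) (ψ ω)) ∧
        ∀ g : G, (∀ ω, Cj g (ψ ω) (ψ (g • ω))) ↔ ∀ ω, f (g • ω) = f ω + κ g ω ∧ c (g • ω) = c ω) ∧
      ∀ g : G, (∀ ω, g • ω = ω ∧ κ g ω = 0) ↔ ∀ ω, ∃ x ∈ L ω, ∀ y ∈ L ω, g * y * g⁻¹ = x * y * x⁻¹ := by
  classical
  choose s hs using fun ω => C.tr ω₀ ω
  have hidx : (T₀.subgroupOf (stabilizer G ω₀)).index = 2 := hP.idx
  have key : ∀ x ∈ stabilizer G ω₀, ∀ y ∈ stabilizer G ω₀, (x * y ∈ T₀ ↔ (x ∈ T₀ ↔ y ∈ T₀)) := by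
    intro x hx y hy
    have h1 := Subgroup.mul_mem_iff_of_index_two hidx (a := ⟨x, hx⟩) (b := ⟨y, hy⟩)
    simp only [Subgroup.mem_subgroupOf] at h1
    exact h1
  obtain ⟨t₁, ht₁, ht₁'⟩ : ∃ t ∈ stabilizer G ω₀, t ∉ T₀ := by
    by_contra hcon
    push Not at hcon
    have h1 : T₀.subgroupOf (stabilizer G ω₀) = ⊤ := by
      rw [Subgroup.subgroupOf_eq_top]
      exact hcon
    rw [h1, Subgroup.index_top] at hidx
    omega
  let ε : G → ZMod 2 := fun t => if t ∈ T₀ then 0 else 1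
  have hε0 : ∀ t, ε t = 0 ↔ t ∈ T₀ := by
    intro t
    simp only [ε]
    split_ifs with h
    · simp [h]
    · simp [h]
  have hε1 : ∀ t, t ∉ T₀ → ε t = 1 := fun t h => if_neg h
  have hεm : ∀ x ∈ stabilizer G ω₀, ∀ y ∈ stabilizer G ω₀, ε (x * y) = ε x + ε y := by
    intro x hx y hy
    have h1 := key x hx y hy
    by_cases hx' : x ∈ T₀ <;> by_cases hy' : y ∈ T₀ <;> simp only [ε, hx', hy', h1] <;> decide
  have hεi : ∀ x ∈ stabilizer G ω₀, ε x⁻¹ = ε x := by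
    intro x _
    simp only [ε, inv_mem_iff]
  have hu : ∀ (g : G) (ω : Ω), (s (g • ω))⁻¹ * g * s ω ∈ stabilizer G ω₀ := by
    intro g ω
    rw [mem_stabilizer_iff, mul_smul, mul_smul, hs, inv_smul_eq_iff, hs]
  refine ⟨fun g ω => ε ((s (g • ω))⁻¹ * g * s ω), ?_, ?_, ?_, ?_⟩
  · intro g h ω
    beta_reduce
    rw [← hεm _ (hu _ _) _ (hu _ _)]
    congr 1
    rw [mul_smul]
    group
  · have h0 : s ω₀ • ω₀ = ω₀ := hs ω₀
    have h1 : (s ω₀)⁻¹ • ω₀ = ω₀ := by rw [inv_smul_eq_iff, h0]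
    have h2 : (s ω₀ * t₁ * (s ω₀)⁻¹) • ω₀ = ω₀ := by
      rw [mul_smul, mul_smul, h1, mem_stabilizer_iff.1 ht₁, h0]
    refine ⟨s ω₀ * t₁ * (s ω₀)⁻¹, ω₀, h2, ?_⟩
    beta_reduce
    rw [h2]
    apply hε1
    have h3 : (s ω₀)⁻¹ * (s ω₀ * t₁ * (s ω₀)⁻¹) * s ω₀ = t₁ := by group
    rwa [h3]
  · intro f c
    -- the representatives of the section
    let ρ : Ω → G := fun ω => if f ω = 0 then 1 else t₁
    have hρs : ∀ ω, ρ ω ∈ stabilizer G ω₀ := by
      intro ω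
      simp only [ρ]
      split_ifs
      · exact one_mem _
      · exact ht₁
    have hρε : ∀ ω, ε (ρ ω) = f ω := by
      intro ω
      simp only [ρ]
      split_ifs with h
      · rw [h, hε0]
        exact one_mem _
      · rw [hε1 _ ht₁']
        have hd : ∀ z : ZMod 2, z ≠ 0 → 1 = z := by decide
        exact hd _ h
    let r : Ω → G := fun ω => s ω * ρ ω
    have hr : ∀ ω, r ω • ω₀ = ω := by
      intro ω
      rw [mul_smul, mem_stabilizer_iff.1 (hρs ω), hs]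
    let θ : Bool → L ω₀ → ℂ := fun t => if t = true then b else a
    have hθ : ∀ t, IrrO Z l (L ω₀) (θ t) := by
      intro t
      cases t
      · exact hP.ia
      · exact hP.ib
    have hθf : ∀ t, ∀ g ∈ stabilizer G ω₀, (Cj g (θ t) (θ t) ↔ g ∈ T₀) := by
      intro t
      cases t
      · exact hP.fa
      · exact hP.fb
    have hθn : ∀ t t', ∀ g ∈ stabilizer G ω₀, Cj g (θ t) (θ t') → t = t' := by
      intro t t' g hg h
      cases t <;> cases t'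
      · rfl
      · exact absurd h (hP.ab g hg)
      · exact absurd h.symm (hP.ab g⁻¹ (inv_mem hg))
      · rfl
    choose ψ h1 h2 h3 h4 using fun ω => C.exists_trans ω₀ ω (hr ω) (hθ (c ω)).1 (hθ (c ω)).2
    have h5 : ∀ ω, Cj (r ω) (θ (c ω)) (ψ ω) := by
      intro ω x y hxy
      exact h4 ω x y x.2 y.2 hxy
    refine ⟨ψ, fun ω => ⟨h1 ω, h2 ω⟩, fun g => ?_⟩
    have hu' : ∀ ω, (r (g • ω))⁻¹ * (g * r ω) ∈ stabilizer G ω₀ := by
      intro ω
      rw [mem_stabilizer_iff, mul_smul, mul_smul, hr, inv_smul_eq_iff, hr]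
    have hue : ∀ ω, ε ((r (g • ω))⁻¹ * (g * r ω)) = f (g • ω) + (ε ((s (g • ω))⁻¹ * g * s ω) + f ω) := by
      intro ω
      have h6 : (r (g • ω))⁻¹ * (g * r ω) = (ρ (g • ω))⁻¹ * (((s (g • ω))⁻¹ * g * s ω) * ρ ω) := by
        simp only [r]
        group
      rw [h6, hεm _ (inv_mem (hρs _)) _ (mul_mem (hu _ _) (hρs _)), hεm _ (hu _ _) _ (hρs _), hεi _ (hρs _), hρε, hρε]
    have hd : ∀ x y z : ZMod 2, x + (y + z) = 0 ↔ x = z + y := by decide
    constructor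
    · intro h ω
      have h6 : Cj ((r (g • ω))⁻¹ * (g * r ω)) (θ (c ω)) (θ (c (g • ω))) := by
        refine Cj.trans (F := L (g • ω)) (Cj.trans (h5 ω) (h ω) fun x hx => mem_of_smul C (hr ω) hx) (h5 (g • ω)).symm
          fun x hx => mem_of_smul C (by rw [mul_smul, hr]) hx
      have h7 := hθn _ _ _ (hu' ω) h6
      refine ⟨?_, h7.symm⟩
      rw [← h7, hθf _ _ (hu' ω), ← hε0, hue, hd] at h6
      exact h6
    · intro h ω
      obtain ⟨h6, h7⟩ := h ω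
      have h8 : Cj ((r (g • ω))⁻¹ * (g * r ω)) (θ (c ω)) (θ (c ω)) := by
        rw [hθf _ _ (hu' ω), ← hε0, hue, hd]
        exact h6
      have h9 := h5 (g • ω)
      rw [h7] at h9
      have h10 : g = r (g • ω) * (((r (g • ω))⁻¹ * (g * r ω)) * (r ω)⁻¹) := by group
      rw [h10]
      have h11 : ∀ x ∈ L ω, (r ω)⁻¹ * x * (r ω)⁻¹⁻¹ ∈ L ω₀ := fun x hx =>
        mem_of_smul C (by rw [inv_smul_eq_iff, hr]) hx
      have h12 := Cj.trans (Cj.trans (h5 ω).symm h8 h11) h9 fun x hx =>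
        mem_of_smul C (by rw [mul_smul, inv_smul_eq_iff.2 (hr ω).symm, mem_stabilizer_iff.1 (hu' ω)]) hx
      have h13 : r (g • ω) * (((r (g • ω))⁻¹ * (g * r ω)) * (r ω)⁻¹) = g := h10.symm
      intro x y hxy
      have h14 : ∀ (k : G) (hk : k = g) (y : L (k • ω)), (y : G) = k * x * k⁻¹ → ψ (k • ω) y = ψ ω x := by
        intro k hk
        subst hk
        intro y hy
        exact h12 x y (by rw [h13]; exact hy)
      exact h14 _ h13 y hxy
  · intro g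
    have hloc : ∀ ω, g • ω = ω → (ε ((s (g • ω))⁻¹ * g * s ω) = 0 ↔ ∃ x ∈ L ω, ∀ y ∈ L ω, g * y * g⁻¹ = x * y * x⁻¹) := by
      intro ω hω
      rw [hε0, hP.inn _ (hu g ω)]
      have hsω : ∀ x ∈ L ω₀, s ω * x * (s ω)⁻¹ ∈ L ω := fun x hx => mem_of_smul C (hs ω) hx
      have hsω' : ∀ x ∈ L ω, (s ω)⁻¹ * x * s ω ∈ L ω₀ := fun x hx => by
        have := mem_of_smul C (g := (s ω)⁻¹) (ω := ω) (ω' := ω₀) (by rw [inv_smul_eq_iff, hs]) hx
        rwa [inv_inv] at this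
      rw [hω]
      constructor
      · rintro ⟨x, hx, h⟩
        refine ⟨s ω * x * (s ω)⁻¹, hsω x hx, fun y hy => ?_⟩
        have h1 := h _ (hsω' y hy)
        have h2 : g * y * g⁻¹ = s ω * ((s ω)⁻¹ * g * s ω * ((s ω)⁻¹ * y * s ω) * ((s ω)⁻¹ * g * s ω)⁻¹) * (s ω)⁻¹ := by
          group
        rw [h2, h1]
        group
      · rintro ⟨x, hx, h⟩
        refine ⟨(s ω)⁻¹ * x * s ω, hsω' x hx, fun y hy => ?_⟩
        have h1 := h _ (hsω y hy)
        have h2 : (s ω)⁻¹ * g * s ω * y * ((s ω)⁻¹ * g * s ω)⁻¹ = (s ω)⁻¹ * (g * (s ω * y * (s ω)⁻¹) * g⁻¹) * s ω := by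
          group
        rw [h2, h1]
        group
    constructor
    · intro h ω
      exact (hloc ω (h ω).1).1 (h ω).2
    · intro h ω
      have hω : g • ω = ω := by
        apply C.inj
        obtain ⟨x, hx, hy⟩ := h ω
        ext y
        rw [C.mem_conj_iff']
        constructor
        · intro h1
          have h2 := hy _ h1
          have h3 : g * (g⁻¹ * y * g) * g⁻¹ = y := by group
          rw [h3] at h2
          rw [h2]
          exact (L ω).mul_mem ((L ω).mul_mem hx h1) ((L ω).inv_mem hx)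
        · intro h1
          have h2 : x⁻¹ * y * x ∈ L ω := (L ω).mul_mem ((L ω).mul_mem ((L ω).inv_mem hx) h1) hx
          have h3 := hy _ h2
          have h4 : x * (x⁻¹ * y * x) * x⁻¹ = y := by group
          rw [h4] at h3
          have h5 : g⁻¹ * y * g = x⁻¹ * y * x := by
            calc g⁻¹ * y * g = g⁻¹ * (g * (x⁻¹ * y * x) * g⁻¹) * g := by rw [h3]
              _ = x⁻¹ * y * x := by group
          rw [h5]
          exact h2
      exact ⟨hω, (hloc ω hω).2 (h ω)⟩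

end

end Cfsg.Agent.H600.RIM.Exc
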