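import Mathlib
import Cfsg.Agent.H600.RIM.ExcBridge
import Cfsg.Agent.H600.RIM.ExcCore
import Cfsg.Agent.H600.RIM.Row

/-!
# S4816, box EXC: the assembly (helper600)
-/

set_option autoImplicit false
set_option linter.unusedSectionVars false
set_option linter.style.haveILetI false

open Cfsg

namespace Cfsg.Agent.H600.RIM.Exc

open Cfsg.Agent.H229.RIM Cfsg.Agent.H229.NX MulAction Cfsg.Agent.H672 Cfsg.Agent.H586.GW
open Cfsg.Agent.H665.RIM

universe u

/-- a non-abelian simple group of order divisible by `p` has a character of degree divisible by `p` -/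
theorem exists_dvd {p : ℕ} (hp : p.Prime) (him : Cfsg.Agent.H37.NX.IM.{u} p) {S : Type u} [Group S] [Finite S] [hS : IsSimpleGroup S]
    (hna : ¬ IsMulCommutative S) (hd : p ∣ Nat.card S) : ∃ θ : S → ℂ, IsIrrCharacter S θ ∧ p ∣ charDegree θ := by
  classical
  by_contra hcon
  push Not at hcon
  obtain ⟨P, hP⟩ := him hcon
  haveI := Fact.mk hp
  rcases hS.eq_bot_or_eq_top_of_normal (P : Subgroup S) hP with h | h
  · have h1 := P.not_dvd_index
    rw [h, Subgroup.index_bot] at h1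
    exact h1 hd
  · have h4 : IsPGroup p S := by
      intro a
      obtain ⟨k, hk⟩ := P.isPGroup' ⟨a, by
        have : a ∈ (P : Subgroup S) := by rw [h]; trivial
        exact this⟩
      exact ⟨k, congrArg Subtype.val hk⟩
    haveI := h4.isNilpotent
    haveI : Group.IsSolvable S := inferInstance
    apply hna
    have h5 := IsSimpleGroup.comm_iff_isSolvable.2 this
    exact ⟨⟨fun a b => h5 a b⟩⟩

theorem alt_not_comm {n : ℕ} (hn : 5 ≤ n) : ¬ IsMulCommutative (alternatingGroup (Fin n)) := by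
  intro h
  have hc : ∀ a b : alternatingGroup (Fin n), a * b = b * a := h.is_comm.comm
  haveI : Nontrivial (Fin n) := Fin.nontrivial_iff_two_le.2 (by omega)
  have hs : IsSimpleGroup (alternatingGroup (Fin n)) :=
    alternatingGroup.isSimpleGroup (by rw [Nat.card_eq_fintype_card, Fintype.card_fin]; exact hn)
  let _ : CommGroup (alternatingGroup (Fin n)) :=
    { (inferInstance : Group (alternatingGroup (Fin n))) with mul_comm := hc }
  have hp : (Nat.card (alternatingGroup (Fin n))).Prime := IsSimpleGroup.prime_card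
  have h1 := Subgroup.card_mul_index (alternatingGroup (Fin n))
  rw [alternatingGroup.index_eq_two, Nat.card_perm, Nat.card_fin] at h1
  have h2 : 12 ∣ Nat.card (alternatingGroup (Fin n)) := by
    have h3 : Nat.factorial 4 ∣ n.factorial := Nat.factorial_dvd_factorial (by omega)
    rw [← h1, show Nat.factorial 4 = 12 * 2 by rfl] at h3
    exact Nat.dvd_of_mul_dvd_mul_right (by norm_num) h3
  have h3 : 2 ∣ Nat.card (alternatingGroup (Fin n)) := dvd_trans (by norm_num) h2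
  have h4 := (Nat.prime_dvd_prime_iff_eq Nat.prime_two hp).1 h3
  rw [← h4] at h2
  norm_num at h2

/-- the stabilizer of a coloured section -/
def SS {G Ω : Type*} [Group G] [MulAction G Ω] (κ : G → Ω → ZMod 2)
    (hκ : ∀ g h ω, κ (g * h) ω = κ g (h • ω) + κ h ω) (f : Ω → ZMod 2) (c : Ω → Bool) : Subgroup G where
  carrier := {g | ∀ ω, f (g • ω) = f ω + κ g ω ∧ c (g • ω) = c ω}
  one_mem' := fun ω => by rw [one_smul, k_one κ hκ, add_zero]; exact ⟨rfl, rfl⟩
  mul_mem' := by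
    intro a b ha hb ω
    refine ⟨?_, by rw [mul_smul, (ha _).2, (hb _).2]⟩
    rw [mul_smul, (ha _).1, (hb _).1, hκ, add_assoc, add_comm (κ b ω)]
  inv_mem' := by
    intro a ha ω
    have h1 := ha (a⁻¹ • ω)
    rw [smul_inv_smul] at h1
    refine ⟨?_, h1.2.symm⟩
    have h2 := k_inv κ hκ a (a⁻¹ • ω)
    rw [smul_inv_smul] at h2
    rw [h2, h1.1, add_assoc]
    have hd : ∀ x y : ZMod 2, x = x + (y + y) := by decide
    exact hd _ _

theorem noExc_of (P : Pow) (him : Cfsg.Agent.H37.NX.IM.{u} 5) (hA6 : PartA6.{u}) (hY : PartY.{u}) (hM : PartM.{u})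
    (hT : PartT.{u}) : NoExc.{u} := by
  classical
  intro G _ _ Z Y l Ω _ _ _ L C hcard
  haveI : Fact (Nat.Prime 5) := ⟨by norm_num⟩
  haveI := C.nY
  haveI : IsPretransitive G Ω := ⟨C.tr⟩
  obtain ⟨ω₀, -, -⟩ := exists_pair_ne Ω
  have hQ := C.qbad him ω₀ (L ω₀).subtype (L ω₀).subtype_injective (L ω₀).range_subtype
  have hcen : ∀ z : L ω₀, z ∈ Subgroup.center (L ω₀) ↔ (z : G) ∈ Z := by
    intro z
    constructor
    · intro h
      refine C.cen ω₀ z z.2 fun y hy => ?_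
      exact (congrArg Subtype.val (Subgroup.mem_center_iff.1 h ⟨y, hy⟩)).symm
    · intro h
      rw [Subgroup.mem_center_iff]
      intro y
      exact Subtype.ext (Subgroup.mem_center_iff.1 (C.min.cen h) y)
  obtain ⟨T₀, a, b, hP⟩ := hA6 Z l (L ω₀) (stabilizer G ω₀) C.min.cen C.min.inj (fun x hx => C.smul_of_mem hx)
    (fun g hg x hx => mem_of_smul C (mem_stabilizer_iff.1 hg) hx) hQ.perf hcen hQ.simp (hcard ω₀).1 (hcard ω₀).2 hQ.pZ
    (fun ψ hψ => C.not_dvd_degree ω₀ hψ.1 hψ.2) (fun ψ hψ => by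
      by_contra hcon
      push Not at hcon
      refine C.no_three P ω₀ ψ (fun i => (hψ i).1) (fun i => (hψ i).2) fun i j hij g hg h => ?_
      exact hcon j i hij.symm g (mem_stabilizer_iff.2 hg) fun x y hxy => h x y x.2 y.2 hxy)
  obtain ⟨κ, hκ, hκ1, hfam, htriv⟩ := bridge C ω₀ hP
  have hYt : ∀ g, (∀ ω, g • ω = ω ∧ κ g ω = 0) ↔ g ∈ Y := fun g => (htriv g).trans (hY C g).symm
  have hSS : ∀ (f : Ω → ZMod 2) (c : Ω → Bool), ∃ χ : Y → ℂ, IsIrrCharacter Y χ ∧
      (∀ z (hz : z ∈ Z), χ ⟨z, C.ZY.le hz⟩ = χ 1 * l ⟨z, hz⟩) ∧ inertia Y χ = SS κ hκ f c ∧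
      ¬ 5 ∣ (SS κ hκ f c).index := by
    intro f c
    obtain ⟨ψ, hψ, hψ'⟩ := hfam f c
    obtain ⟨χ, h1, h2, h3, h4, -, -⟩ := C.exists_family ψ (fun ω => (hψ ω).1) (fun ω => (hψ ω).2) (SS κ hκ f c) (by
      intro g
      refine (hψ' g).symm.trans ?_
      constructor
      · intro h ω x y hx hy hxy
        exact h ω ⟨x, hx⟩ ⟨y, hy⟩ hxy
      · intro h ω x y hxy
        exact h ω x y x.2 y.2 hxy)
    exact ⟨χ, h1, h2, h3, h4⟩
  obtain ⟨m, e, φ, hm, hφ, he⟩ := hM (G := G) (Ω := Ω) (fun N hN1 hN2 hN3 => C.min.dvd_index hN1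
      (fun z hz => hN2 z fun ω => ((hYt z).2 (C.ZY.le hz) ω).1) hN3) (fun c hc => by
    obtain ⟨-, -, -, -, h⟩ := hSS 0 c
    exact h (hc.trans (Subgroup.index_dvd_of_le fun g hg ω => (hg ω).2)))
  have hN0 : ∀ N : Subgroup G, N.Normal → (∀ g : G, (∀ ω : Ω, g • ω = ω ∧ κ g ω = 0) → g ∈ N) → N ≠ ⊤ → 5 ∣ N.index :=
    fun N hN1 hN2 hN3 => C.min.dvd_index hN1 (fun z hz => hN2 z ((hYt z).2 (C.ZY.le hz))) hN3
  have hcore := core_of e φ hφ he κ hκ hm hκ1 hN0 (fun f c => by
    obtain ⟨-, -, -, -, h⟩ := hSS f c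
    exact ⟨SS κ hκ f c, h, fun g hg ω => hg ω⟩)
  obtain ⟨χ, hχ, hz, hin, -⟩ := hSS 0 (fun _ => false)
  obtain ⟨hrel, hdeg, -⟩ := C.min.over_normal C.nY C.ZY.le hχ hz
  let T : Subgroup G := SS κ hκ 0 (fun _ => false)
  have hTm : ∀ g, g ∈ T ↔ ∀ ω : Ω, κ g ω = 0 := by
    intro g
    constructor
    · intro h ω
      have := (h ω).1
      simpa using this.symm
    · intro h ω
      refine ⟨?_, rfl⟩
      rw [h ω]
      rfl
  have hYT : Y ≤ T := fun g hg => (hTm g).2 fun ω => ((hYt g).2 hg ω).2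
  have hrel2 := RelP.inertia Y hχ hrel T hin.symm hYT
  let e0 : Y.subgroupOf T ≃* Y := Subgroup.subgroupOfEquivOfLe hYT
  have hrel3 : RelP 5 (Y.subgroupOf T).subtype (χ ∘ e0) := relP_equiv (Subgroup.inclusion hYT) e0 hrel2
  let π : T →* G ⧸ φ.ker := (QuotientGroup.mk' φ.ker).comp T.subtype
  let eS : G ⧸ φ.ker ≃* alternatingGroup (Fin m) :=
    (QuotientGroup.quotientKerEquivRange φ).trans (MulEquiv.subgroupCongr hφ)
  haveI hsA : IsSimpleGroup (alternatingGroup (Fin m)) :=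
    alternatingGroup.isSimpleGroup (by rw [Nat.card_eq_fintype_card, Fintype.card_fin]; omega)
  haveI : IsSimpleGroup (G ⧸ φ.ker) := eS.isSimpleGroup
  have hna : ¬ IsMulCommutative (G ⧸ φ.ker) := by
    intro h
    apply alt_not_comm (n := m) (by omega)
    refine ⟨⟨fun x y => ?_⟩⟩
    have h1 := h.is_comm.comm (eS.symm x) (eS.symm y)
    have h2 := congrArg eS h1
    rw [map_mul, map_mul, eS.apply_symm_apply, eS.apply_symm_apply] at h2
    exact h2
  have hd5 : 5 ∣ Nat.card (G ⧸ φ.ker) := by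
    rw [Nat.card_congr eS.toEquiv]
    haveI : Nontrivial (Fin m) := Fin.nontrivial_iff_two_le.2 (by omega)
    have h1 := Subgroup.card_mul_index (alternatingGroup (Fin m))
    rw [alternatingGroup.index_eq_two, Nat.card_perm, Nat.card_fin] at h1
    have h2 : 5 ∣ m.factorial := Nat.dvd_factorial (by norm_num) (by omega)
    rw [← h1] at h2
    exact (Nat.Coprime.dvd_mul_right (by norm_num)).1 h2
  have hNB : NBall 5 (G ⧸ φ.ker) := Cfsg.Agent.H600.RIM.nball_alt (n := m) (by omega) eS (by norm_num) (by norm_num)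
    (by omega) (by omega)
  refine hT (p := 5) (S := G ⧸ φ.ker) (T := T) (by norm_num) hna hNB (exists_dvd (by norm_num) him hna hd5) π ?_
    (Y.subgroupOf T) ?_ (χ ∘ e0) ?_ ?_ ?_ hrel3
  · intro x
    obtain ⟨g, rfl⟩ := QuotientGroup.mk'_surjective φ.ker x
    obtain ⟨h, h1, h2⟩ := hcore g
    refine ⟨⟨h, (hTm h).2 h1⟩, ?_⟩
    show QuotientGroup.mk' φ.ker h = QuotientGroup.mk' φ.ker g
    rw [QuotientGroup.mk'_apply, QuotientGroup.mk'_apply, QuotientGroup.eq, MonoidHom.mem_ker, map_mul, map_inv, h2,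
      inv_mul_cancel]
  · ext x
    rw [Subgroup.mem_subgroupOf, MonoidHom.mem_ker]
    have h1 : π x = 1 ↔ φ (x : G) = 1 := by
      show QuotientGroup.mk' φ.ker (x : G) = 1 ↔ _
      rw [← MonoidHom.mem_ker, QuotientGroup.ker_mk', MonoidHom.mem_ker]
    rw [h1, triv_iff e φ he, ← hYt]
    have h2 := (hTm x).1 x.2
    constructor
    · intro h ω
      exact (h ω).1
    · intro h ω
      exact ⟨h ω, h2 ω⟩
  · exact Cfsg.Agent.Characters.Core.isIrr_comp e0.toMonoidHom e0.surjective hχ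
  · intro g x y hxy
    have hg : (g : G) ∈ inertia Y χ := by rw [hin]; exact g.2
    rw [mem_inertia_iff] at hg
    have h1 := hg (e0 x)
    have h2 : (e0 y : Y) = ⟨(g : G) * (e0 x : Y) * (g : G)⁻¹, C.nY.conj_mem _ (e0 x).2 _⟩ := by
      apply Subtype.ext
      exact congrArg (Subgroup.subtype T) hxy
    show χ (e0 y) = χ (e0 x)
    rw [h2]
    exact h1
  · have h1 : charDegree (χ ∘ e0) = charDegree χ := by
      rw [Blocks.Basic.charDegree_def, Blocks.Basic.charDegree_def, Function.comp, map_one]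
    rw [h1]
    exact hdeg

end Cfsg.Agent.H600.RIM.Exc
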