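import Cfsg.Agent.H87.Spin.Ones

/-!
# Strict partitions whose spin degree is divisible by `p` (S4816, RIM-ALT, helper600)

`n ≥ 8`, `p` an odd prime `≤ n`, `(n, p) ≠ (8, 5)`: two rows `(n - k, k)`, or `(n - 3, 2, 1)`, or `(p + 1, p - 4, 1)`.
-/

set_option autoImplicit false

namespace Cfsg.Agent.H600.RIM

open Cfsg.Agent.H614.Spin

/-- the degree of the label `L` (without powers of 2) -/
def dg (n : ℕ) (L : List ℤ) : ℤ := X (Multiset.replicate n 1) L

theorem two_rows {n k : ℕ} (hk : 1 ≤ k) (hkn : 2 * k < n) :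
    Strict [(n : ℤ) - k, (k : ℤ)] ∧ ([(n : ℤ) - k, (k : ℤ)] : List ℤ).sum = n ∧
      dg n [(n : ℤ) - k, (k : ℤ)] * n = (n.choose k : ℤ) * ((n : ℤ) - 2 * k) := by
  have hS : Strict [(n : ℤ) - k, (k : ℤ)] := by
    refine ⟨?_, ?_⟩
    · simp only [List.pairwise_cons, List.mem_cons, List.not_mem_nil, or_false, forall_eq, false_imp_iff,
        implies_true, List.Pairwise.nil, and_true]
      omega
    · intro a ha
      simp only [List.mem_cons, List.not_mem_nil, or_false] at ha
      omega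
  have hs : ([(n : ℤ) - k, (k : ℤ)] : List ℤ).sum = n := by simp
  refine ⟨hS, hs, ?_⟩
  have h := X_ones n hS hs
  have e1 : ((n : ℤ) - k).toNat = n - k := by omega
  have e2 : ((k : ℤ)).toNat = k := by omega
  simp only [ratio, List.map_cons, List.map_nil, List.prod_cons, List.prod_nil, mul_one, e1, e2] at h
  have h1 : ((n.factorial : ℕ) : ℚ) = (n.choose k : ℚ) * k.factorial * (n - k).factorial := by
    rw [← Nat.choose_mul_factorial_mul_factorial (show k ≤ n by omega)]
    push_cast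
    ring
  have h2 : ((k.factorial : ℕ) : ℚ) ≠ 0 := Nat.cast_ne_zero.2 (Nat.factorial_ne_zero _)
  have h3 : (((n - k).factorial : ℕ) : ℚ) ≠ 0 := Nat.cast_ne_zero.2 (Nat.factorial_ne_zero _)
  have h4 : (n : ℚ) ≠ 0 := Nat.cast_ne_zero.2 (by omega)
  rw [h1] at h
  have h5 : ((dg n [(n : ℤ) - k, (k : ℤ)] * n : ℤ) : ℚ) = (((n.choose k : ℤ) * ((n : ℤ) - 2 * k) : ℤ) : ℚ) := by
    unfold dg
    push_cast
    rw [h]
    push_cast
    have e3 : (n : ℚ) - k + k = n := by ring
    rw [e3]
    field_simp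
    ring
  exact_mod_cast h5

theorem three_rows {n : ℕ} (hn : 6 ≤ n) :
    Strict [(n : ℤ) - 3, 2, 1] ∧ ([(n : ℤ) - 3, 2, 1] : List ℤ).sum = n ∧
      6 * dg n [(n : ℤ) - 3, 2, 1] = n * ((n : ℤ) - 4) * ((n : ℤ) - 5) := by
  have hS : Strict [(n : ℤ) - 3, 2, 1] := by
    refine ⟨?_, ?_⟩
    · simp only [List.pairwise_cons, List.mem_cons, List.not_mem_nil, or_false, forall_eq, false_imp_iff,
        implies_true, List.Pairwise.nil, and_true, forall_eq_or_imp]
      omega
    · intro a ha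
      simp only [List.mem_cons, List.not_mem_nil, or_false] at ha
      omega
  have hs : ([(n : ℤ) - 3, 2, 1] : List ℤ).sum = n := by simp
  refine ⟨hS, hs, ?_⟩
  have h := X_ones n hS hs
  have e1 : ((n : ℤ) - 3).toNat = n - 3 := by omega
  simp only [ratio, List.map_cons, List.map_nil, List.prod_cons, List.prod_nil, mul_one, e1] at h
  obtain ⟨m, rfl⟩ : ∃ m, n = m + 3 := ⟨n - 3, by omega⟩
  have h1 : (((m + 3).factorial : ℕ) : ℚ) = (m + 3) * (m + 2) * (m + 1) * m.factorial := by
    rw [Nat.factorial_succ, Nat.factorial_succ, Nat.factorial_succ]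
    push_cast
    ring
  have h2 : ((m.factorial : ℕ) : ℚ) ≠ 0 := Nat.cast_ne_zero.2 (Nat.factorial_ne_zero _)
  have h3 : (m : ℚ) + 1 ≠ 0 := by positivity
  have h4 : (m : ℚ) + 2 ≠ 0 := by positivity
  rw [h1, Nat.add_sub_cancel] at h
  have h5 : ((6 * dg (m + 3) [((m + 3 : ℕ) : ℤ) - 3, 2, 1] : ℤ) : ℚ) =
      ((((m + 3 : ℕ) : ℤ) * (((m + 3 : ℕ) : ℤ) - 4) * (((m + 3 : ℕ) : ℤ) - 5) : ℤ) : ℚ) := by
    unfold dg
    push_cast
    push_cast at h
    rw [h]
    norm_num
    field_simp
    ring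
  exact_mod_cast h5

theorem core_rows {p : ℕ} (hp : 7 ≤ p) :
    Strict [(p : ℤ) + 1, (p : ℤ) - 4, 1] ∧ ([(p : ℤ) + 1, (p : ℤ) - 4, 1] : List ℤ).sum = ((2 * p - 2 : ℕ) : ℤ) ∧
      dg (2 * p - 2) [(p : ℤ) + 1, (p : ℤ) - 4, 1] *
        (((p - 1).factorial * (p + 1) * (p - 4).factorial * (2 * p - 3) * (p + 2) * (p - 3) * p : ℕ) : ℤ) =
        (((2 * p - 2).factorial * 5 * p * (p - 5) : ℕ) : ℤ) := by
  have hS : Strict [(p : ℤ) + 1, (p : ℤ) - 4, 1] := by
    refine ⟨?_, ?_⟩
    · simp only [List.pairwise_cons, List.mem_cons, List.not_mem_nil, or_false, forall_eq, false_imp_iff,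
        implies_true, List.Pairwise.nil, and_true, forall_eq_or_imp]
      omega
    · intro a ha
      simp only [List.mem_cons, List.not_mem_nil, or_false] at ha
      omega
  have hs : ([(p : ℤ) + 1, (p : ℤ) - 4, 1] : List ℤ).sum = ((2 * p - 2 : ℕ) : ℤ) := by
    simp only [List.sum_cons, List.sum_nil]
    omega
  refine ⟨hS, hs, ?_⟩
  have h := X_ones (2 * p - 2) hS hs
  have e1 : ((p : ℤ) + 1).toNat = p + 1 := by omega
  have e2 : ((p : ℤ) - 4).toNat = p - 4 := by omega
  simp only [ratio, List.map_cons, List.map_nil, List.prod_cons, List.prod_nil, mul_one, e1, e2] at h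
  have h1 : (((p + 1).factorial : ℕ) : ℚ) = (p + 1) * p * (p - 1).factorial := by
    obtain ⟨m, rfl⟩ : ∃ m, p = m + 1 := ⟨p - 1, by omega⟩
    rw [Nat.factorial_succ, Nat.factorial_succ, Nat.add_sub_cancel]
    push_cast
    ring
  have h2 : (((p - 1).factorial : ℕ) : ℚ) ≠ 0 := Nat.cast_ne_zero.2 (Nat.factorial_ne_zero _)
  have h3 : (((p - 4).factorial : ℕ) : ℚ) ≠ 0 := Nat.cast_ne_zero.2 (Nat.factorial_ne_zero _)
  have hp7 : (7 : ℚ) ≤ p := by exact_mod_cast hp
  have h4 : (p : ℚ) ≠ 0 := by linarith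
  have h5 : (p : ℚ) + 1 ≠ 0 := by linarith
  have h6 : (p : ℚ) + 2 ≠ 0 := by linarith
  have h7 : (p : ℚ) - 3 ≠ 0 := by linarith
  have h8 : 2 * (p : ℚ) - 3 ≠ 0 := by linarith
  rw [h1] at h
  have c1 : ((2 * p - 3 : ℕ) : ℚ) = 2 * p - 3 := by
    rw [Nat.cast_sub (by omega)]; push_cast; ring
  have c2 : ((p - 3 : ℕ) : ℚ) = p - 3 := by
    rw [Nat.cast_sub (by omega)]; push_cast; ring
  have c3 : ((p - 5 : ℕ) : ℚ) = p - 5 := by
    rw [Nat.cast_sub (by omega)]; push_cast; ring
  have h9 : ((dg (2 * p - 2) [(p : ℤ) + 1, (p : ℤ) - 4, 1] *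
        (((p - 1).factorial * (p + 1) * (p - 4).factorial * (2 * p - 3) * (p + 2) * (p - 3) * p : ℕ) : ℤ) : ℤ) : ℚ) =
        (((((2 * p - 2).factorial * 5 * p * (p - 5) : ℕ) : ℤ) : ℤ) : ℚ) := by
    unfold dg
    rw [Int.cast_mul, h]
    rw [Int.cast_natCast, Int.cast_natCast, Nat.cast_mul, Nat.cast_mul, Nat.cast_mul, Nat.cast_mul, Nat.cast_mul,
      Nat.cast_mul, Nat.cast_mul, Nat.cast_mul, Nat.cast_mul, c1, c2, c3]
    push_cast
    have e3 : (p : ℚ) + 1 + (p - 4) = 2 * p - 3 := by ring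
    have e4 : (p : ℚ) + 1 + 1 = p + 2 := by ring
    have e5 : (p : ℚ) - 4 + 1 = p - 3 := by ring
    have e6 : (p : ℚ) + 1 - (p - 4) = 5 := by ring
    have e7 : (p : ℚ) + 1 - 1 = p := by ring
    have e8 : (p : ℚ) - 4 - 1 = p - 5 := by ring
    rw [e3, e4, e5, e6, e7, e8]
    simp only [Int.toNat_one, Nat.factorial_one, Nat.cast_one, mul_one]
    generalize hc : 2 * (p : ℚ) - 3 = c at h8 ⊢
    generalize hd : (p : ℚ) - 3 = d at h7 ⊢
    field_simp
  exact_mod_cast h9

/-- **The numbers**: `p` divides the degree of some label -/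
theorem exists_label_dvd {n p : ℕ} (hn : 8 ≤ n) (hp : p.Prime) (hp2 : p ≠ 2) (hpn : p ≤ n)
    (h85 : ¬ (n = 8 ∧ p = 5)) : ∃ L : List ℤ, Strict L ∧ L.sum = n ∧ (p : ℤ) ∣ X (Multiset.replicate n 1) L := by
  have hpi : Prime (p : ℤ) := Nat.prime_iff_prime_int.1 hp
  have hp3 : 3 ≤ p := by
    have := hp.two_le
    omega
  -- two rows, `p ∤ n`
  have two : ∀ k : ℕ, 1 ≤ k → 2 * k < n → ¬ p ∣ n → (p ∣ n.choose k ∨ p ∣ n - 2 * k) →
      ∃ L : List ℤ, Strict L ∧ L.sum = n ∧ (p : ℤ) ∣ X (Multiset.replicate n 1) L := by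
    intro k hk hkn hpn' hd
    obtain ⟨h1, h2, h3⟩ := two_rows hk hkn
    refine ⟨_, h1, h2, ?_⟩
    have h4 : (p : ℤ) ∣ dg n [(n : ℤ) - k, (k : ℤ)] * n := by
      rw [h3]
      rcases hd with hd | hd
      · exact Dvd.dvd.mul_right (Int.natCast_dvd_natCast.2 hd) _
      · apply Dvd.dvd.mul_left
        have : (n : ℤ) - 2 * k = ((n - 2 * k : ℕ) : ℤ) := by omega
        rw [this]
        exact Int.natCast_dvd_natCast.2 hd
    rcases hpi.dvd_or_dvd h4 with h5 | h5
    · exact h5
    · exact absurd (Int.natCast_dvd_natCast.1 h5) hpn'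
  have hdiv := Nat.div_add_mod n p
  have hlt := Nat.mod_lt n hp.pos
  set r := n % p with hr
  set q := n / p with hq
  have hq1 : 1 ≤ q := Nat.div_pos hpn hp.pos
  rcases Nat.eq_zero_or_pos r with hr0 | hr0
  · -- `p ∣ n`
    have hpd : p ∣ n := Nat.dvd_of_mod_eq_zero (by rw [← hr, hr0])
    rcases Nat.lt_or_ge p 5 with h5 | h5
    · have hp3' : p = 3 := by
        have h4 : p ≠ 4 := by rintro rfl; norm_num at hp
        omega
      subst hp3'
      have h9 : n % 9 = 0 ∨ n % 9 = 3 ∨ n % 9 = 6 := by omega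
      rcases h9 with h9 | h9 | h9
      · obtain ⟨m, rfl⟩ := Nat.dvd_of_mod_eq_zero h9
        obtain ⟨h1, h2, h3⟩ := three_rows (n := 9 * m) (by omega)
        refine ⟨_, h1, h2, ?_⟩
        change (3 : ℤ) ∣ dg (9 * m) _
        have h4 : 6 * dg (9 * m) [((9 * m : ℕ) : ℤ) - 3, 2, 1] =
            9 * (m * (((9 * m : ℕ) : ℤ) - 4) * (((9 * m : ℕ) : ℤ) - 5)) := by
          rw [h3]; push_cast; ring
        omega
      · obtain ⟨m, hm⟩ : ∃ m, n = 9 * m + 3 := ⟨n / 9, by omega⟩
        obtain ⟨h1, h2, h3⟩ := two_rows (n := n) (k := 4) (by norm_num) (by omega)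
        refine ⟨_, h1, h2, ?_⟩
        change (3 : ℤ) ∣ dg n _
        have h4 : (24 : ℤ) * n.choose 4 = n * (n - 1) * (n - 2) * (n - 3) := by
          have h5 := Nat.descFactorial_eq_factorial_mul_choose n 4
          have h6 : (n.descFactorial 4 : ℤ) = n * (n - 1) * (n - 2) * (n - 3) := by
            subst hm
            simp only [Nat.descFactorial_succ, Nat.descFactorial_zero, Nat.sub_zero, mul_one]
            have c1 : ((9 * m + 3 - 1 : ℕ) : ℤ) = 9 * m + 2 := by omega
            have c2 : ((9 * m + 3 - 2 : ℕ) : ℤ) = 9 * m + 1 := by omega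
            have c3 : ((9 * m + 3 - 3 : ℕ) : ℤ) = 9 * m := by omega
            rw [Nat.cast_mul, Nat.cast_mul, Nat.cast_mul, c1, c2, c3]
            push_cast
            ring
          rw [← h6, h5]
          push_cast
          norm_num [Nat.factorial]
        have hn0 : (n : ℤ) ≠ 0 := by omega
        have h7 : 24 * dg n [(n : ℤ) - (4 : ℕ), ((4 : ℕ) : ℤ)] = (n - 1) * (n - 2) * (n - 3) * (n - 8) := by
          apply mul_right_cancel₀ hn0
          rw [mul_assoc, h3]
          push_cast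
          linear_combination ((n : ℤ) - 8) * h4
        rw [hm] at h7 ⊢
        push_cast at h7 ⊢
        have h8 : 24 * dg (9 * m + 3) [9 * (m : ℤ) + 3 - 4, 4] =
            9 * ((9 * (m : ℤ) + 2) * (9 * m + 1) * m * (9 * m - 5)) := by
          rw [h7]; ring
        omega
      · obtain ⟨m, hm⟩ : ∃ m, n = 9 * m + 6 := ⟨n / 9, by omega⟩
        obtain ⟨h1, h2, h3⟩ := two_rows (n := n) (k := 7) (by norm_num) (by omega)
        refine ⟨_, h1, h2, ?_⟩
        change (3 : ℤ) ∣ dg n _
        have h4 : (5040 : ℤ) * n.choose 7 = n * (n - 1) * (n - 2) * (n - 3) * (n - 4) * (n - 5) * (n - 6) := by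
          have h5 := Nat.descFactorial_eq_factorial_mul_choose n 7
          have h6 : (n.descFactorial 7 : ℤ) = n * (n - 1) * (n - 2) * (n - 3) * (n - 4) * (n - 5) * (n - 6) := by
            subst hm
            simp only [Nat.descFactorial_succ, Nat.descFactorial_zero, Nat.sub_zero, mul_one]
            have c1 : ((9 * m + 6 - 1 : ℕ) : ℤ) = 9 * m + 5 := by omega
            have c2 : ((9 * m + 6 - 2 : ℕ) : ℤ) = 9 * m + 4 := by omega
            have c3 : ((9 * m + 6 - 3 : ℕ) : ℤ) = 9 * m + 3 := by omega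
            have c4 : ((9 * m + 6 - 4 : ℕ) : ℤ) = 9 * m + 2 := by omega
            have c5 : ((9 * m + 6 - 5 : ℕ) : ℤ) = 9 * m + 1 := by omega
            have c6 : ((9 * m + 6 - 6 : ℕ) : ℤ) = 9 * m := by omega
            rw [Nat.cast_mul, Nat.cast_mul, Nat.cast_mul, Nat.cast_mul, Nat.cast_mul, Nat.cast_mul, c1, c2, c3, c4, c5, c6]
            push_cast
            ring
          rw [← h6, h5]
          push_cast
          norm_num [Nat.factorial]
        have hn0 : (n : ℤ) ≠ 0 := by omega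
        have h7 : 5040 * dg n [(n : ℤ) - (7 : ℕ), ((7 : ℕ) : ℤ)] =
            (n - 1) * (n - 2) * (n - 3) * (n - 4) * (n - 5) * (n - 6) * (n - 14) := by
          apply mul_right_cancel₀ hn0
          rw [mul_assoc, h3]
          push_cast
          linear_combination ((n : ℤ) - 14) * h4
        rw [hm] at h7 ⊢
        push_cast at h7 ⊢
        have h8 : 5040 * dg (9 * m + 6) [9 * (m : ℤ) + 6 - 7, 7] =
            27 * ((9 * (m : ℤ) + 5) * (9 * m + 4) * (3 * m + 1) * (9 * m + 2) * (9 * m + 1) * m * (9 * m - 8)) := by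
          rw [h7]; ring
        omega
    · obtain ⟨h1, h2, h3⟩ := three_rows (n := n) (by omega)
      refine ⟨_, h1, h2, ?_⟩
      change (p : ℤ) ∣ dg n _
      have h4 : (p : ℤ) ∣ 6 * dg n [(n : ℤ) - 3, 2, 1] := by
        rw [h3, mul_assoc]
        exact Dvd.dvd.mul_right (Int.natCast_dvd_natCast.2 hpd) _
      rcases hpi.dvd_or_dvd h4 with h6 | h6
      · exfalso
        have h7 : p ∣ 6 := by exact_mod_cast h6
        have h8 := Nat.le_of_dvd (by norm_num) h7
        interval_cases p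
        · norm_num at h7
        · norm_num at hp
      · exact h6
  · have hpd : ¬ p ∣ n := fun h => by
      have := Nat.mod_eq_zero_of_dvd h
      omega
    rcases Nat.lt_or_ge r (p - 1) with hr1 | hr1
    · by_cases hex : r = p - 2 ∧ q = 1
      · -- `n = 2p - 2`
        obtain ⟨hr2, hq2⟩ := hex
        have hn2 : n = 2 * p - 2 := by rw [hq2] at hdiv; omega
        have hp7 : 7 ≤ p := by
          have h5 : p ≠ 5 := fun h => h85 ⟨by omega, h⟩
          have h6 : p ≠ 6 := by rintro rfl; norm_num at hp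
          omega
        obtain ⟨h1, h2, h3⟩ := core_rows hp7
        rw [hn2]
        refine ⟨_, h1, h2, ?_⟩
        change (p : ℤ) ∣ dg (2 * p - 2) _
        -- divide by `p`
        have h4 : p ∣ (2 * p - 2).factorial := (Nat.Prime.dvd_factorial hp).2 (by omega)
        have hp0 : (p : ℤ) ≠ 0 := by exact_mod_cast hp.ne_zero
        have h5 : dg (2 * p - 2) [(p : ℤ) + 1, (p : ℤ) - 4, 1] *
            (((p - 1).factorial * (p + 1) * (p - 4).factorial * (2 * p - 3) * (p + 2) * (p - 3) : ℕ) : ℤ) =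
            (((2 * p - 2).factorial * 5 * (p - 5) : ℕ) : ℤ) := by
          apply mul_right_cancel₀ hp0
          push_cast at h3 ⊢
          linear_combination h3
        have h6 : (p : ℤ) ∣ dg (2 * p - 2) [(p : ℤ) + 1, (p : ℤ) - 4, 1] *
            (((p - 1).factorial * (p + 1) * (p - 4).factorial * (2 * p - 3) * (p + 2) * (p - 3) : ℕ) : ℤ) := by
          rw [h5]
          exact Int.natCast_dvd_natCast.2 (Dvd.dvd.mul_right (Dvd.dvd.mul_right h4 _) _)
        rcases hpi.dvd_or_dvd h6 with h7 | h7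
        · exact h7
        · exfalso
          have h8 := Int.natCast_dvd_natCast.1 h7
          have f1 : ¬ p ∣ (p - 1).factorial := fun h => by
            have := (Nat.Prime.dvd_factorial hp).1 h
            omega
          have f2 : ¬ p ∣ p + 1 := fun h => by
            have h' := (Nat.dvd_add_right (dvd_refl p)).1 h
            have := Nat.le_of_dvd (by norm_num) h'
            omega
          have f3 : ¬ p ∣ (p - 4).factorial := fun h => by
            have := (Nat.Prime.dvd_factorial hp).1 h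
            omega
          have f4 : ¬ p ∣ 2 * p - 3 := fun h => by
            have h' : p ∣ 3 := (Nat.dvd_sub_iff_right (by omega) (Dvd.intro_left 2 rfl)).1 h
            have := Nat.le_of_dvd (by norm_num) h'
            omega
          have f5 : ¬ p ∣ p + 2 := fun h => by
            have h' := (Nat.dvd_add_right (dvd_refl p)).1 h
            have := Nat.le_of_dvd (by norm_num) h'
            omega
          have f6 : ¬ p ∣ p - 3 := fun h => by
            have := Nat.le_of_dvd (by omega) h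
            omega
          simp only [hp.dvd_mul, f1, f2, f3, f4, f5, f6, or_self] at h8
      · -- `k = r + 1`
        have h2k : 2 * (r + 1) < n := by
          rcases Nat.lt_or_ge q 2 with h | h
          · have hq2 : q = 1 := by omega
            rw [hq2, mul_one] at hdiv
            have : r ≠ p - 2 := fun h => hex ⟨h, hq2⟩
            omega
          · have : p * 2 ≤ p * q := Nat.mul_le_mul_left p h
            omega
        refine two (r + 1) (by omega) h2k hpd (Or.inl ?_)
        have : Fact p.Prime := ⟨hp⟩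
        have h1 : n.choose (r + 1) ≡ (n % p).choose ((r + 1) % p) * (n / p).choose ((r + 1) / p) [MOD p] :=
          Choose.choose_modEq_choose_mod_mul_choose_div_nat
        rw [← hr, Nat.mod_eq_of_lt (show r + 1 < p by omega), Nat.choose_succ_self, zero_mul] at h1
        exact (Nat.modEq_zero_iff_dvd).1 h1
    · -- `r = p - 1`, `k = (p - 1) / 2`
      have hodd := hp.odd_of_ne_two hp2
      obtain ⟨m, hm⟩ := hodd
      have hpq : p ≤ p * q := Nat.le_mul_of_pos_right p (by omega)
      refine two m (by omega) (by omega) hpd (Or.inr ?_)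
      have : n - 2 * m = p * q := by omega
      rw [this]
      exact Dvd.intro _ rfl

end Cfsg.Agent.H600.RIM
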